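import Cfsg.Agent.H91.FourFree.Basic
import Cfsg.Agent.H10.Walter.Setting
import Cfsg.Agent.Bridge.Bender
import Cfsg.Agent.S1163

/-!
# Simple groups of order prime to three

Given the theorem on strongly closed abelian 2-subgroups and the classification with abelian Sylow 2-subgroups,
they are the Suzuki groups.
-/

set_option autoImplicit false
set_option linter.style.haveILetI false

namespace Cfsg.Agent.H91.FourFree

open Subgroup Cfsg.Agent
open Cfsg.Agent.H10.Walter (WalterHyp IsOddPSL)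
open Cfsg.Agent.H36.TwoIrrational (StronglyClosedAbelianHyp)
open Cfsg.Agent.Thompson.Par (Inv3)

universe u

theorem three_dvd_psl (F : Type) [Field F] [Fintype F] :
    3 ∣ Nat.card (Matrix.ProjectiveSpecialLinearGroup (Fin 2) F) := by
  have h := Linear.card_PSL_two_mul (F := F)
  have hg : Nat.gcd 2 (Fintype.card F - 1) ∣ 2 := Nat.gcd_dvd_left _ _
  have h3 : 3 ∣ Fintype.card F * (Fintype.card F ^ 2 - 1) := by
    rcases (show Fintype.card F % 3 = 0 ∨ Fintype.card F % 3 = 1 ∨ Fintype.card F % 3 = 2 by omega) with e | e | e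
    · exact (Nat.dvd_of_mod_eq_zero e).mul_right _
    all_goals
      have h1 : Nat.ModEq 3 1 (Fintype.card F ^ 2) := by
        show 1 % 3 = Fintype.card F ^ 2 % 3
        rw [Nat.pow_mod, e]
      exact ((Nat.modEq_iff_dvd' (Nat.one_le_pow _ _ Fintype.card_pos)).mp h1).mul_left _
  rw [← h] at h3
  exact ((Nat.Prime.dvd_mul Nat.prime_three).mp h3).resolve_left fun h' =>
    absurd (Nat.le_of_dvd two_pos (h'.trans hg)) (by norm_num)

theorem isSuzuki_of_isoSuzuki {G : Type*} [Group G] [IsSimpleGroup G] (h : Cfsg.Lie.IsoSuzuki G) :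
    Cfsg.IsSuzuki G := by
  obtain ⟨F, _, _, m, hm, hF, ⟨e⟩⟩ := h
  refine ⟨inferInstance, m, hm, ?_⟩
  rw [Nat.card_congr e.toEquiv, (S1163.result hm hF).1]
  ring

/-- A simple group of order prime to three is a Suzuki group. -/
theorem isoSuzuki_of_three_prime (hWA : StronglyClosedAbelianHyp.{u}) (hWal : WalterHyp.{u})
    {G : Type u} [Group G] [Finite G] [IsSimpleGroup G] (hna : ¬ IsMulCommutative G)
    (h3 : ¬ 3 ∣ Nat.card G) : Cfsg.Lie.IsoSuzuki G := by
  suffices key : ∀ n : ℕ, ∀ (X : Type u) [Group X] [Finite X], Nat.card X = n → IsSimpleGroup X →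
      ¬ IsMulCommutative X → ¬ 3 ∣ n → Cfsg.Lie.IsoSuzuki X from
    key (Nat.card G) G rfl inferInstance hna h3
  intro n
  induction n using Nat.strong_induction_on with
  | _ n ih =>
    intro X _ _ hn hs hnaX h3X
    subst hn
    haveI := hs
    have h4 : ¬ Cfsg.Involves (Equiv.Perm (Fin 4)) X := by
      intro hi
      obtain ⟨K, f, hf⟩ := H58.Inv.exists_hom_of_involves hi
      refine h3X (Dvd.dvd.trans ?_ ((card_dvd_of_surjective f hf).trans (card_subgroup_dvd_card K)))
      rw [Nat.card_perm, Nat.card_fin]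
      norm_num
    rcases dichotomy hWA hnaX h4 (fun Y _ _ hlt hsY hnY _ _ hdvd =>
      Or.inl (ih _ hlt Y rfl hsY hnY fun h => h3X (hdvd h))) with ⟨S, hS⟩ | ⟨H, hH⟩
    · exfalso
      rcases hWal X inferInstance hnaX (H10.Walter.absyl_of_sylow S hS) with
        ⟨F, _, _, n, -, -, ⟨e⟩⟩ | ⟨F, _, _, -, -, ⟨e⟩⟩ | ⟨-, -, t, E, E₀, -, -, -, -, ⟨F, _, _, -, -, ⟨e⟩⟩, -⟩
      · exact h3X (Nat.card_congr e.toEquiv ▸ three_dvd_psl F)
      · exact h3X (Nat.card_congr e.toEquiv ▸ three_dvd_psl F)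
      · exact h3X ((Nat.card_congr e.toEquiv ▸ three_dvd_psl F : 3 ∣ Nat.card ↥E₀).trans
          (card_subgroup_dvd_card E₀))
    · have hne : ∃ a b : X, a * b ≠ b * a := by
        by_contra hc
        push Not at hc
        exact hnaX ⟨⟨hc⟩⟩
      rcases Bridge.bender X hne H hH with ⟨F, _, _, -, -, ⟨e⟩⟩ | h | ⟨F, _, _, q, hF, hev, hq, ⟨e⟩⟩
      · exact absurd (Nat.card_congr e.toEquiv ▸ three_dvd_psl F) h3X
      · exact h
      · exfalso
        obtain ⟨p, _, k, hp, hk⟩ := FiniteField.card' F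
        have hqd : q ∣ p ^ (k : ℕ) := ⟨q, by rw [← hk, hF, pow_two]⟩
        obtain ⟨n, -, rfl⟩ := (Nat.dvd_prime_pow hp).mp hqd
        obtain rfl : p = 2 := ((Nat.prime_dvd_prime_iff_eq Nat.prime_two hp).mp
          (Nat.prime_two.dvd_of_dvd_pow (even_iff_two_dvd.mp hev))).symm
        have hn1 : 1 ≤ n := by
          by_contra h0
          obtain rfl : n = 0 := by omega
          norm_num at hq
        exact H88.Gold.not_inv3_of_three h3X (H88.Gold.inv3_of_equiv e.symm (H88.Gold.inv3_psu hn1 hF))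

end Cfsg.Agent.H91.FourFree
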