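import Cfsg.Agent.H88.Gold.Main
import Cfsg.Agent.H36.TwoIrrational.Basic
import Cfsg.Agent.H59.KielerLocal
import Cfsg.Agent.S2796
import Cfsg.Agent.S0205
import Cfsg.Agent.Components.Fitting
import Cfsg.Agent.FusionSys.FreeFunctor

/-!
# Simple groups without a section `S₄`

Glauberman's theorem and the theorem on strongly closed abelian 2-subgroups leave a simple group with abelian
Sylow 2-subgroups or with a strongly embedded subgroup.
-/

set_option autoImplicit false
set_option linter.style.haveILetI false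
set_option linter.unusedSectionVars false

namespace Cfsg.Agent.H91.FourFree

open Subgroup Cfsg.Agent
open Cfsg.Agent.Thompson.Par (Inv3)
open Cfsg.Agent.H36.TwoIrrational (StronglyClosedAbelianHyp)

universe u

/-- A group of characteristic two type without a section `S₄` has no section `S₃`. -/
theorem not_inv3_of_constrained {X : Type u} [Group X] [Finite X]
    (h4 : ¬ Cfsg.Involves (Equiv.Perm (Fin 4)) X)
    (hc : centralizer (Cfsg.pCore 2 X : Set X) ≤ Cfsg.pCore 2 X) : ¬ Inv3 X := by
  haveI : Fact (Nat.Prime 2) := ⟨Nat.prime_two⟩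
  rintro ⟨b, t, hb, ht⟩
  refine h4 (H58.SFour.backward (Cfsg.pCore 2 X) (Components.isPGroup_pCore 2) (H88.Gold.involves_three_iff.mpr ?_))
  set T := Cfsg.pCore 2 X
  set N := normalizer (T : Set X)
  have hN : ∀ x : X, x ∈ N := fun x => by
    rw [show N = ⊤ from normalizer_eq_top T]
    exact mem_top x
  set π := QuotientGroup.mk' ((centralizer (T : Set X)).subgroupOf N)
  refine ⟨π ⟨b, hN b⟩, π ⟨t, hN t⟩, ?_, ?_⟩
  · haveI : Fact (Nat.Prime 3) := ⟨Nat.prime_three⟩
    refine orderOf_eq_prime ?_ fun e => ?_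
    · rw [← map_pow, show (⟨b, hN b⟩ : ↥N) ^ 3 = 1 from Subtype.ext (by
        show b ^ 3 = 1
        rw [← hb, pow_orderOf_eq_one]), map_one]
    · obtain ⟨k, hk⟩ := Components.isPGroup_pCore (G := X) 2 ⟨b, hc (mem_subgroupOf.mp ((QuotientGroup.eq_one_iff (⟨b, hN b⟩ : ↥N)).mp e))⟩
      have h3 : 3 ∣ 2 ^ k := hb ▸ orderOf_dvd_of_pow_eq_one (congrArg Subtype.val hk)
      exact absurd (Nat.prime_three.dvd_of_dvd_pow h3) (by norm_num)
  · rw [← map_inv, ← map_mul, ← map_mul]
    exact congrArg π (Subtype.ext ht)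

variable {G : Type u} [Group G] [Finite G] [IsSimpleGroup G]

/-- Smaller simple groups without a section `S₃` being Suzuki or `PSL₂(3^odd)`, the group has abelian Sylow
2-subgroups or a strongly embedded subgroup. -/
theorem dichotomy (hWA : StronglyClosedAbelianHyp.{u}) (hna : ¬ IsMulCommutative G)
    (h4 : ¬ Cfsg.Involves (Equiv.Perm (Fin 4)) G)
    (ih : ∀ (X : Type u) [Group X] [Finite X], Nat.card X < Nat.card G → IsSimpleGroup X →
      ¬ IsMulCommutative X → ¬ Cfsg.Involves (Equiv.Perm (Fin 4)) X → ¬ Inv3 X →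
      (3 ∣ Nat.card X → 3 ∣ Nat.card G) → Cfsg.IsSuzukiOrPSL2OddPowerThree X) :
    (∃ S : Sylow 2 G, IsMulCommutative ↥(S : Subgroup G)) ∨
      ∃ H : Subgroup G, Cfsg.IsStronglyEmbedded H := by
  haveI : Fact (Nat.Prime 2) := ⟨Nat.prime_two⟩
  haveI : Nontrivial G := IsSimpleGroup.toNontrivial
  have h2 : 2 ∣ Nat.card G := by
    by_contra hodd
    haveI := S0205.result (Nat.odd_iff.2 (show Nat.card G % 2 = 1 by omega))
    exact hna ⟨⟨IsSimpleGroup.comm_iff_isSolvable.2 inferInstance⟩⟩
  have hsec : ∀ (K R : Subgroup G) [hR : (R.subgroupOf K).Normal],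
      centralizer (Cfsg.pCore 2 (K ⧸ R.subgroupOf K) : Set (K ⧸ R.subgroupOf K)) ≤
        Cfsg.pCore 2 (K ⧸ R.subgroupOf K) →
      Cfsg.IsCompositionKGroupWith Cfsg.IsSuzukiOrPSL2OddPowerThree (K ⧸ R.subgroupOf K) := by
    intro K R hR hc H _ N _ hs hn
    set X := ↥K ⧸ R.subgroupOf K with hX
    have hX4 : ¬ Cfsg.Involves (Equiv.Perm (Fin 4)) X :=
      FusionSys.not_involves_quotient _ (FusionSys.not_involves_subgroup K h4)
    have hlt : Nat.card X < Nat.card G := by
      have hle : Nat.card X ≤ Nat.card ↥K :=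
        Nat.card_le_card_of_surjective _ (QuotientGroup.mk'_surjective (R.subgroupOf K))
      refine lt_of_le_of_ne (hle.trans (Subgroup.card_le_card_group K)) fun e => ?_
      have hK : Nat.card ↥K = Nat.card G := le_antisymm (Subgroup.card_le_card_group K) (e ▸ hle)
      obtain rfl : K = ⊤ := eq_top_of_card_eq K hK
      have hR1 : R.subgroupOf ⊤ = ⊥ := by
        have h := Subgroup.card_eq_card_quotient_mul_card_subgroup (R.subgroupOf (⊤ : Subgroup G))
        rw [← hX, e, hK] at h
        refine Subgroup.eq_bot_of_card_eq _ ?_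
        have hpos : 0 < Nat.card G := Nat.card_pos
        nlinarith
      let φ : X ≃* G := ((QuotientGroup.quotientMulEquivOfEq hR1).trans
        QuotientGroup.quotientBot).trans Subgroup.topEquiv
      haveI : IsSimpleGroup X := φ.isSimpleGroup
      rcases (inferInstance : (Cfsg.pCore 2 X).Normal).eq_bot_or_eq_top with e0 | e0
      · rw [e0] at hc
        have htop : (⊤ : Subgroup X) ≤ ⊥ := fun x _ => hc (mem_centralizer_iff.mpr fun y hy => by
          rw [SetLike.mem_coe, mem_bot] at hy
          rw [hy, one_mul, mul_one])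
        haveI : Nontrivial X := φ.toEquiv.nontrivial
        exact top_ne_bot (le_bot_iff.mp htop)
      · haveI : IsSimpleGroup G := inferInstance
        have hp : IsPGroup 2 X := (e0 ▸ (Components.isPGroup_pCore (G := X) 2)).of_equiv
          Subgroup.topEquiv
        haveI : Group.IsSolvable G := by
          haveI := (hp.of_equiv φ).isNilpotent
          infer_instance
        exact hna ⟨⟨IsSimpleGroup.comm_iff_isSolvable.2 inferInstance⟩⟩
    haveI := hs
    have h3 := not_inv3_of_constrained hX4 hc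
    have hcard : Nat.card (↥H ⧸ N) ∣ Nat.card X :=
      (Subgroup.card_quotient_dvd_card N).trans (Subgroup.card_subgroup_dvd_card H)
    refine ih _ ((Nat.le_of_dvd Nat.card_pos hcard).trans_lt hlt) hs hn
      (FusionSys.not_involves_quotient _ (FusionSys.not_involves_subgroup H hX4))
      (fun h => h3 (Thompson.Par.Inv3.of_subgroup (Thompson.Par.Inv3.of_quotient N h))) fun h => ?_
    exact h.trans (hcard.trans ((Subgroup.card_quotient_dvd_card _).trans (Subgroup.card_subgroup_dvd_card K)))
  obtain ⟨S⟩ : Nonempty (Sylow 2 G) := inferInstance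
  set N := normalizer (Cfsg.thompsonSubgroupOf 2 (S : Subgroup G) : Set G) with hN
  set A := (normalClosure (((Cfsg.omegaOne 2 ((S : Subgroup G) ⊓ centralizer ((S : Subgroup G) : Set G))).subgroupOf
    N : Subgroup ↥N) : Set ↥N)).map N.subtype with hA
  obtain ⟨-, hel, hcl, -⟩ := S2796.result h4 hsec S N hN A hA
  have hSne : (S : Subgroup G) ≠ ⊥ := fun e => by
    have := S.dvd_card_of_dvd_card h2
    rw [e, Subgroup.card_bot] at this
    exact absurd (Nat.le_of_dvd one_pos this) (by norm_num)
  have hA1 : A ≠ ⊥ := by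
    intro e
    refine H59.omegaOne_center_ne_bot (p := 2) S.isPGroup' hSne (le_bot_iff.mp fun z hz => ?_)
    have hzC : z ∈ centralizer ((S : Subgroup G) : Set G) ∧ z ∈ (S : Subgroup G) := by
      have := (closure_le ((S : Subgroup G) ⊓ centralizer ((S : Subgroup G) : Set G))).mpr
        (fun x (hx : x ∈ (S : Subgroup G) ⊓ centralizer ((S : Subgroup G) : Set G) ∧ x ^ 2 = 1) => hx.1) hz
      exact ⟨this.2, this.1⟩
    have hzN : z ∈ N := by
      rw [hN]
      refine centralizer_le_normalizer _ (centralizer_le ?_ hzC.1)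
      intro x hx
      rw [Thompson.thompsonSubgroupOf_eq] at hx
      exact Thompson.jay_le hx
    have hzA : z ∈ A := by
      rw [hA]
      exact ⟨⟨z, hzN⟩, subset_normalClosure (mem_subgroupOf.mpr hz), rfl⟩
    rwa [e] at hzA
  rcases hWA G S A hA1 hel.1 hcl with hS | hH
  · exact Or.inl ⟨S, hS⟩
  · exact Or.inr hH

end Cfsg.Agent.H91.FourFree
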