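import Cfsg.Agent.H91.FourFree.Basic
import Cfsg.Agent.H10.Walter.Setting
import Cfsg.Agent.H28.WardCons.Basic
import Cfsg.Agent.Bridge.Bender
import Cfsg.Agent.Linear.Dickson.Orders
import Cfsg.Agent.S0252
import Cfsg.Agent.S0253
import Cfsg.Agent.S1644

/-!
# Simple groups without a section `S₄` are the groups of Goldschmidt

Given the theorem on strongly closed abelian 2-subgroups, the classification with abelian Sylow 2-subgroups,
the involution centralisers of type R and the order theorem for them.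
-/

set_option autoImplicit false
set_option linter.style.haveILetI false

namespace Cfsg.Agent.H91.FourFree

open Subgroup Cfsg.Agent
open Cfsg.Agent.H10.Walter (WalterHyp AbSyl IsTypeR)
open Cfsg.Agent.H28.WardCons (TypeRCentralizer)
open Cfsg.Agent.H36.TwoIrrational (StronglyClosedAbelianHyp)
open Cfsg.Agent.Thompson.Par (Inv3)

universe u

theorem two_sq : ∀ w : Multiplicative (ZMod 2), w ^ 2 = 1 := by decide

theorem two_inv_mul : ∀ a b : Multiplicative (ZMod 2), a ≠ 1 → b ≠ 1 → a⁻¹ * b = 1 := by decide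

/-- `PSL₂` over four elements is `PSL₂` over five elements. -/
theorem gold_of_four {G : Type*} [Group G] {F : Type} [Field F] [Fintype F] (hF : Fintype.card F = 4)
    (e : G ≃* Matrix.ProjectiveSpecialLinearGroup (Fin 2) F) : Cfsg.IsGoldschmidtGroup G := by
  haveI : Fact (Nat.Prime 5) := ⟨by norm_num⟩
  obtain ⟨e4⟩ := S0252.result hF
  obtain ⟨e5⟩ := S0253.result (ZMod.card 5)
  exact Or.inr (Or.inr (Or.inr (Or.inr (Or.inl
    ⟨ZMod 5, inferInstance, inferInstance, 5, ZMod.card 5, le_rfl, by norm_num, ⟨(e.trans e4).trans e5.symm⟩⟩))))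

theorem center_psl_eq_bot {F : Type} [Field F] [Finite F] (h4 : 4 ≤ Nat.card F) :
    center (Matrix.ProjectiveSpecialLinearGroup (Fin 2) F) = ⊥ := by
  haveI := Linear.isSimpleGroup_PSL_fin (F := F) (n := 2) le_rfl fun _ => h4
  refine (inferInstance : (center (Matrix.ProjectiveSpecialLinearGroup (Fin 2) F)).Normal).eq_bot_or_eq_top.resolve_right
    fun e => Linear.Dickson.not_isSolvable_PSL h4 ?_
  exact Group.isSolvable_of_comm fun a b => (mem_center_iff.mp (e ▸ mem_top b : b ∈ center _) a)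

variable {G : Type u} [Group G] [Finite G] [IsSimpleGroup G]

/-- A simple group of type R is of Ree type or is the first Janko group. -/
theorem gold_of_typeR (hR : TypeRCentralizer.{u}) (hWard : H88.Gold.WardHyp.{u})
    (hna : ¬ IsMulCommutative G) (hab : AbSyl G) (h : IsTypeR G) : Cfsg.IsGoldschmidtGroup G := by
  classical
  haveI : Fact (Nat.Prime 2) := ⟨Nat.prime_two⟩
  obtain ⟨t, F, _, _, ht, h5, -, ⟨e⟩⟩ := hR G inferInstance hna hab h
  obtain ⟨U, hU⟩ : ∃ U : Sylow 2 G, t ∈ (U : Subgroup G) := by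
    obtain ⟨U, hU⟩ := (IsPGroup.of_card (G := zpowers t) (p := 2) (n := 1)
      (by rw [Nat.card_zpowers, ht, pow_one])).exists_le_sylow
    exact ⟨U, hU (mem_zpowers t)⟩
  set C := centralizer ({t} : Set G)
  have hUC : (U : Subgroup G) ≤ C := fun u hu =>
    mem_centralizer_singleton_iff.mpr (hab.comm U.isPGroup' hu hU).eq
  rcases hWard G (fun P a b => Subtype.ext (hab.comm P.isPGroup' a.2 b.2).eq) F (by omega) t ht ⟨e⟩ with
    ⟨m, hm, hF, -⟩ | ⟨h45, -⟩
  · refine Or.inl ⟨inferInstance, hna, t, ?_⟩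
    have htC : t ∈ C := mem_centralizer_singleton_iff.mpr rfl
    set z := e ⟨t, htC⟩ with hz
    have hz2 : z.2 = 1 := by
      rw [← mem_bot, ← center_psl_eq_bot (F := F) (by rw [Nat.card_eq_fintype_card]; omega), mem_center_iff]
      intro y
      have hc : (⟨t, htC⟩ : C) * e.symm (1, y) = e.symm (1, y) * ⟨t, htC⟩ :=
        Subtype.ext (mem_centralizer_singleton_iff.mp (e.symm (1, y)).2).symm
      have := congrArg (fun w => (e w).2) hc
      simpa [hz] using this.symm
    have hz1 : z.1 ≠ 1 := fun h1 => by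
      have : z = 1 := Prod.ext h1 hz2
      have h' : (⟨t, htC⟩ : C) = 1 := e.injective (this.trans (map_one e).symm)
      rw [show t = 1 from congrArg Subtype.val h', orderOf_one] at ht
      omega
    set K : Subgroup G := ((MonoidHom.fst (Multiplicative (ZMod 2))
      (Matrix.ProjectiveSpecialLinearGroup (Fin 2) F)).comp e.toMonoidHom).ker.map C.subtype with hK
    refine ⟨K, m, hm, ht, ?_, ⟨zpowers_le.mpr htC, map_subtype_le _, ?_, ?_, ?_⟩, F, inferInstance, inferInstance,
      hF, ⟨?_⟩⟩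
    · rw [← Nat.not_even_iff_odd, even_iff_two_dvd]
      exact fun h2 => U.not_dvd_index (h2.trans (index_dvd_of_le hUC))
    · rintro a ⟨i, rfl⟩ b ⟨c, -, rfl⟩
      exact ((show Commute t (c : G) from (mem_centralizer_singleton_iff.mp c.2).symm).zpow_left i).eq
    · rw [eq_bot_iff]
      rintro _ ⟨⟨i, rfl⟩, c, hc, ec⟩
      rw [mem_bot]
      have ec' : c = (⟨t, htC⟩ : C) ^ i := Subtype.ext (by rw [coe_zpow]; exact ec)
      have hci : (e c).1 = 1 := hc
      rw [ec', map_zpow, Prod.pow_fst, ← hz] at hci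
      have h2i : (2 : ℤ) ∣ i := by
        have := orderOf_dvd_iff_zpow_eq_one.mpr hci
        rwa [orderOf_eq_prime (two_sq _) hz1] at this
      obtain ⟨j, rfl⟩ := h2i
      show t ^ (2 * j) = 1
      rw [zpow_mul, show (2 : ℤ) = ((2 : ℕ) : ℤ) from rfl, zpow_natCast, ← ht, pow_orderOf_eq_one, one_zpow]
    · refine le_antisymm (sup_le (zpowers_le.mpr htC) (map_subtype_le _)) fun c hc => ?_
      rcases eq_or_ne (e ⟨c, hc⟩).1 1 with h1 | h1
      · exact mem_sup_right ⟨⟨c, hc⟩, h1, rfl⟩
      · rw [show c = t * (t⁻¹ * c) by group]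
        refine mul_mem (mem_sup_left (mem_zpowers t)) (mem_sup_right ⟨⟨t, htC⟩⁻¹ * ⟨c, hc⟩, ?_, rfl⟩)
        show (e (⟨t, htC⟩⁻¹ * ⟨c, hc⟩)).1 = 1
        rw [map_mul, map_inv, Prod.fst_mul, Prod.fst_inv, ← hz]
        exact two_inv_mul _ _ hz1 h1
    · exact ((equivMapOfInjective _ C.subtype (subtype_injective C)).symm).trans
        { toFun := fun c => (e c.1).2
          invFun := fun y => ⟨e.symm (1, y), show (e (e.symm (1, y))).1 = 1 by rw [e.apply_symm_apply]⟩
          left_inv := fun c => Subtype.ext (by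
            refine e.injective ?_
            simp only [MulEquiv.apply_symm_apply]
            exact Prod.ext (c.2 : (e c.1).1 = 1).symm rfl)
          right_inv := fun y => by simp
          map_mul' := fun a b => by rw [Subgroup.coe_mul, map_mul, Prod.snd_mul] }
  · obtain ⟨e5⟩ : Nonempty (Matrix.ProjectiveSpecialLinearGroup (Fin 2) F ≃* alternatingGroup (Fin 5)) := by
      rcases h45 with hF | hF
      · exact S0252.result hF
      · exact S0253.result hF
    exact Or.inr (Or.inr (Or.inr (Or.inr (Or.inr (S1644.result U (hab U) (h.1 U) t ht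
      (e.trans ((MulEquiv.refl _).prodCongr e5)))))))

/-- A simple group without a section `S₄` is a group of Goldschmidt. -/
theorem isGoldschmidt_of_four_free (hWA : StronglyClosedAbelianHyp.{u}) (hWal : WalterHyp.{u})
    (hR : TypeRCentralizer.{u}) (hWard : H88.Gold.WardHyp.{u}) (hna : ¬ IsMulCommutative G)
    (h4 : ¬ Cfsg.Involves (Equiv.Perm (Fin 4)) G) : Cfsg.IsGoldschmidtGroup G := by
  suffices key : ∀ n : ℕ, ∀ (X : Type u) [Group X] [Finite X], Nat.card X = n → IsSimpleGroup X →
      ¬ IsMulCommutative X → ¬ Cfsg.Involves (Equiv.Perm (Fin 4)) X → Cfsg.IsGoldschmidtGroup X from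
    key (Nat.card G) G rfl inferInstance hna h4
  intro n
  induction n using Nat.strong_induction_on with
  | _ n ih =>
    intro X _ _ hn hs hnaX hX4
    subst hn
    haveI := hs
    rcases dichotomy hWA hnaX hX4 (fun Y _ _ hlt hsY hnY hY4 hY3 _ =>
      ((H88.Gold.goldschmidt_of_ward hWard (ih _ hlt Y rfl hsY hnY hY4)).2).mp
        fun h => hY3 (H88.Gold.involves_three_iff.mp h)) with ⟨S, hS⟩ | ⟨H, hH⟩
    · have hab := H10.Walter.absyl_of_sylow S hS
      rcases hWal X inferInstance hnaX hab with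
        ⟨F, _, _, n, hn, hF, ⟨e⟩⟩ | ⟨F, _, _, h5, h8, he⟩ | hT
      · by_cases h3 : 3 ≤ n
        · exact Or.inr (Or.inl ⟨F, inferInstance, inferInstance, n, h3, hF, ⟨e⟩⟩)
        · obtain rfl : n = 2 := by omega
          exact gold_of_four hF e
      · exact Or.inr (Or.inr (Or.inr (Or.inr (Or.inl ⟨F, inferInstance, inferInstance, _, rfl, h5, h8, he⟩))))
      · exact gold_of_typeR hR hWard hnaX hab hT
    · have hne : ∃ a b : X, a * b ≠ b * a := by
        by_contra hc
        push Not at hc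
        exact hnaX ⟨⟨hc⟩⟩
      rcases Bridge.bender X hne H hH with ⟨F, _, _, hch, h4F, ⟨e⟩⟩ | h | ⟨F, _, _, q, hF, hev, hq, ⟨e⟩⟩
      · haveI := hch
        obtain ⟨k, -, hk⟩ := FiniteField.card F 2
        by_cases h3 : 3 ≤ (k : ℕ)
        · exact Or.inr (Or.inl ⟨F, inferInstance, inferInstance, k, h3, hk, ⟨e⟩⟩)
        · refine gold_of_four ?_ e
          have := Nat.pow_le_pow_right (show 1 ≤ 2 by norm_num) (show (k : ℕ) ≤ 2 by omega)
          omega
      · exact Or.inr (Or.inr (Or.inl h))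
      · obtain ⟨p, _, k, hp, hk⟩ := FiniteField.card' F
        have hqd : q ∣ p ^ (k : ℕ) := ⟨q, by rw [← hk, hF, pow_two]⟩
        obtain ⟨n, -, rfl⟩ := (Nat.dvd_prime_pow hp).mp hqd
        obtain rfl : p = 2 := ((Nat.prime_dvd_prime_iff_eq Nat.prime_two hp).mp
          (Nat.prime_two.dvd_of_dvd_pow (even_iff_two_dvd.mp hev))).symm
        refine Or.inr (Or.inr (Or.inr (Or.inl ⟨F, inferInstance, inferInstance, n, ?_, ?_, ⟨e⟩⟩)))
        · by_contra hlt
          have := Nat.pow_le_pow_right (show 1 ≤ 2 by norm_num) (show n ≤ 1 by omega)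
          omega
        · rw [hF, ← pow_mul, show (4 : ℕ) = 2 ^ 2 from rfl, ← pow_mul, mul_comm]

end Cfsg.Agent.H91.FourFree
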