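import Cfsg.Agent.Linear.Dickson.Orders
import Cfsg.Agent.Linear.Dickson.Scaled
import Cfsg.Agent.H76.PostBender.Trans
import Mathlib.NumberTheory.LegendreSymbol.QuadraticChar.Basic

/-!
# `PSL₂(q)`, `q = 3 ^ (2 n + 1) > 3`: the Sylow 3-subgroups

The Sylow 3-subgroups are abelian, each transitive on the others, and in a central extension by a 3-group
their preimages are still abelian.
-/

set_option autoImplicit false
set_option linter.style.haveILetI false
set_option linter.unusedSectionVars false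

namespace Cfsg.Agent.H91.FourFree

open Subgroup Cfsg.Agent
open Cfsg.Agent.Linear Cfsg.Agent.Linear.Dickson
open Cfsg.Agent.H76.PostBender (SylTrans sylTrans_slTwo)
open scoped commutatorElement Pointwise

local instance fact_three_pslThree : Fact (Nat.Prime 3) := ⟨Nat.prime_three⟩

/-- An automorphism fixing every Sylow subgroup and acting on a simple non-abelian group is trivial; one fixing
a Sylow subgroup pointwise, transitive on the others, is inner. -/
theorem aut_eq_conj_of_fix {p : ℕ} [Fact p.Prime] {X : Type*} [Group X] [Finite X] [IsSimpleGroup X]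
    (htr : SylTrans p X) (S T : Sylow p X) (hT : T ≠ S)
    (hab : ∀ a ∈ (S : Subgroup X), ∀ b ∈ (S : Subgroup X), a * b = b * a) (α : MulAut X)
    (hα : ∀ s ∈ (S : Subgroup X), α s = s) :
    ∃ u ∈ (S : Subgroup X), ∀ x, α x = u * x * u⁻¹ := by
  have hinv : ∀ x : X, x ∈ (S : Subgroup X) → α⁻¹ x = x := fun x hx => by
    conv_lhs => rw [← hα x hx]
    exact α.symm_apply_apply x
  set A := fun R : Sylow p X => α • R with hA
  have hAS : α • S = S := Sylow.ext (by
    ext x
    constructor
    · rintro ⟨s, hs, rfl⟩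
      show α s ∈ (S : Subgroup X)
      rw [hα s hs]
      exact hs
    · intro hx
      exact ⟨x, hx, hα x hx⟩)
  obtain ⟨u, hu, e⟩ := htr S T (α • T) hT fun h => hT ((smul_left_cancel_iff α).mp (h.trans hAS.symm))
  refine ⟨u, hu, ?_⟩
  set β : MulAut X := (MulAut.conj u)⁻¹ * α with hβ
  have hβS : ∀ s ∈ (S : Subgroup X), β s = s := fun s hs => by
    show (MulAut.conj u)⁻¹ (α s) = s
    rw [MulAut.conj_inv_apply, hα s hs, mul_assoc, hab s hs u hu, inv_mul_cancel_left]
  have hsm : ∀ (g : X) (R : Sylow p X), β • (g • R) = β g • (β • R) := fun g R => Sylow.ext (by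
    show ((R : Subgroup X).map (MulAut.conj g).toMonoidHom).map β.toMonoidHom =
      ((R : Subgroup X).map β.toMonoidHom).map (MulAut.conj (β g)).toMonoidHom
    rw [map_map, map_map]
    exact congrArg (fun φ : X →* X => (R : Subgroup X).map φ) (MonoidHom.ext fun y => by simp))
  have hβT : β • T = T := by
    rw [hβ, mul_smul, ← e, show u • T = (MulAut.conj u) • T from rfl, inv_smul_smul]
  have hall : ∀ R : Sylow p X, β • R = R := fun R => by
    rcases eq_or_ne R S with rfl | hR
    · refine Sylow.ext ?_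
      ext x
      constructor
      · rintro ⟨s, hs, rfl⟩
        show β s ∈ (R : Subgroup X)
        rw [hβS s hs]
        exact hs
      · exact fun hx => ⟨x, hx, hβS x hx⟩
    · obtain ⟨v, hv, rfl⟩ := htr S T R hT hR
      rw [hsm, hβT, hβS v hv]
  set N : Subgroup X := ⨅ R : Sylow p X, normalizer ((R : Subgroup X) : Set X) with hN
  haveI : N.Normal := ⟨fun x hx g => by
    rw [hN, mem_iInf] at hx ⊢
    intro R
    refine Sylow.smul_eq_iff_mem_normalizer.mp ?_
    rw [mul_smul, mul_smul, Sylow.smul_eq_iff_mem_normalizer.mpr (hx (g⁻¹ • R)), smul_inv_smul]⟩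
  have hN1 : N = ⊥ := by
    refine (inferInstance : N.Normal).eq_bot_or_eq_top.resolve_right fun h => hT ?_
    have hn : ∀ (R : Sylow p X) (g : X), g • R = R := fun R g => Sylow.smul_eq_iff_mem_normalizer.mpr
      ((iInf_le (fun R : Sylow p X => normalizer ((R : Subgroup X) : Set X)) R) (show g ∈ N from h ▸ mem_top g))
    obtain ⟨g, hg⟩ := MulAction.exists_smul_eq X S T
    rw [← hg, hn]
  intro x
  have hfix : β x = x := by
    have hm : x⁻¹ * β x ∈ N := by
      rw [hN, mem_iInf]
      intro R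
      refine Sylow.smul_eq_iff_mem_normalizer.mp ?_
      rw [mul_smul]
      conv_lhs => rw [← hall R, ← hsm, hall, inv_smul_smul]
    rw [hN1, mem_bot, inv_mul_eq_one] at hm
    exact hm.symm
  have hb : u⁻¹ * α x * u = x := (MulAut.conj_inv_apply u (α x)).symm.trans hfix
  calc α x = u * (u⁻¹ * α x * u) * u⁻¹ := by group
    _ = u * x * u⁻¹ := by rw [hb]

variable {K : Type} [Field K] [Fintype K] {n : ℕ}

local notation "M2" => Matrix (Fin 2) (Fin 2) K
local notation "S2" => Matrix.SpecialLinearGroup (Fin 2) K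
local notation "P2" => Matrix.ProjectiveSpecialLinearGroup (Fin 2) K

theorem charP_three (hK : Fintype.card K = 3 ^ (2 * n + 1)) : CharP K 3 := charP_of_card_eq_prime_pow hK

/-- The standard unipotent element with entry `a`. -/
noncomputable def uP (a : K) : P2 := proj (upSL a)

theorem uP_mul (a b : K) : uP (K := K) a * uP b = uP (a + b) := by
  rw [uP, uP, uP, ← map_mul]
  congr 1
  apply SL_ext_two <;> simp [upSL_coe, Matrix.mul_fin_two, add_comm]

theorem uP_zero : uP (0 : K) = 1 := by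
  rw [uP, ← map_one proj]
  congr 1
  apply SL_ext_two <;> simp [upSL_coe]

theorem uP_mem (a : K) : uP a ∈ cen (stdUni : P2) := by
  rw [uP, mem_cen_stdUni]
  simp [upSL_coe]

theorem exists_uP {x : P2} (hx : x ∈ cen (stdUni : P2)) : ∃ a, uP a = x := by
  obtain ⟨y, rfl⟩ := proj_surjective x
  obtain ⟨h10, h00⟩ := mem_cen_stdUni.mp hx
  have hd := SL_det_two y
  rw [h10, mul_zero, sub_zero, ← h00] at hd
  rcases mul_self_eq_one_iff.mp hd with h1 | h1
  · refine ⟨(y : M2) 0 1, ?_⟩
    rw [uP]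
    congr 1
    apply SL_ext_two <;> simp [upSL_coe, h10, h1, ← h00]
  · refine ⟨-(y : M2) 0 1, ?_⟩
    rw [uP, ← proj_neg y]
    congr 1
    apply SL_ext_two <;> simp [upSL_coe, h10, h1, ← h00]

theorem uP_conj (r : Kˣ) (a : K) :
    proj (dSL r) * uP a * (proj (dSL r))⁻¹ = uP ((r : K) * r * a) := by
  rw [mul_inv_eq_iff_eq_mul, uP, uP, ← map_mul, ← map_mul]
  congr 1
  apply SL_ext_two <;> simp [upSL_coe, dSL_coe, Matrix.mul_fin_two]
  field_simp

/-- The standard Sylow 3-subgroup. -/
theorem exists_stdSylow (hK : Fintype.card K = 3 ^ (2 * n + 1)) :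
    ∃ U : Sylow 3 P2, (U : Subgroup P2) = cen (stdUni : P2) := by
  have hcard : Nat.card (cen (stdUni : P2)) = 3 ^ (2 * n + 1) :=
    (card_cen_of_isUni stdUni_ne_one isUni_stdUni).trans hK
  have hidx : ¬ 3 ∣ (cen (stdUni : P2)).index := by
    intro h3
    have h1 := (cen (stdUni : P2)).card_mul_index
    have h2 := card_PSL_two_mul (F := K)
    have hq : 3 ∣ Fintype.card K := by rw [hK]; exact dvd_pow_self 3 (by omega)
    have hpos : 0 < Fintype.card K := Fintype.card_pos
    have hodd : Nat.gcd 2 (Fintype.card K - 1) = 2 := Nat.gcd_eq_left (by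
      have : Fintype.card K % 2 = 1 := by rw [hK, Nat.pow_mod]; norm_num
      omega)
    rw [hodd, ← h1, hcard, ← hK] at h2
    have h4 : 2 * (cen (stdUni : P2)).index = Fintype.card K ^ 2 - 1 :=
      Nat.eq_of_mul_eq_mul_left hpos (by rw [← h2]; ring)
    have h5 : 3 ∣ Fintype.card K ^ 2 - 1 := h4 ▸ h3.mul_left 2
    have h6 : 3 ∣ Fintype.card K ^ 2 := hq.trans (dvd_pow_self _ two_ne_zero)
    have h7 : 1 ≤ Fintype.card K ^ 2 := Nat.one_le_pow _ _ hpos
    omega
  exact ⟨(IsPGroup.of_card hcard).toSylow hidx, rfl⟩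

theorem sylow_comm (hK : Fintype.card K = 3 ^ (2 * n + 1)) (S : Sylow 3 P2) {a b : P2}
    (ha : a ∈ (S : Subgroup P2)) (hb : b ∈ (S : Subgroup P2)) : a * b = b * a := by
  obtain ⟨U, hU⟩ := exists_stdSylow hK
  obtain ⟨g, rfl⟩ := MulAction.exists_smul_eq P2 U S
  obtain ⟨a, ha, rfl⟩ := ha
  obtain ⟨b, hb, rfl⟩ := hb
  rw [SetLike.mem_coe, hU] at ha hb
  obtain ⟨x, rfl⟩ := exists_uP ha
  obtain ⟨y, rfl⟩ := exists_uP hb
  show g * uP x * g⁻¹ * (g * uP y * g⁻¹) = g * uP y * g⁻¹ * (g * uP x * g⁻¹)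
  rw [show g * uP x * g⁻¹ * (g * uP y * g⁻¹) = g * (uP x * uP y) * g⁻¹ by group, uP_mul, add_comm, ← uP_mul]
  group

theorem sylTrans_psl (hK : Fintype.card K = 3 ^ (2 * n + 1)) : SylTrans 3 P2 :=
  haveI := charP_three hK
  (sylTrans_slTwo (p := 3) (F := K)).of_surjective proj_surjective

/-- In a central extension by a group the preimage of a Sylow 3-subgroup is abelian. -/
theorem comm_preimage (hn : 1 ≤ n) (hK : Fintype.card K = 3 ^ (2 * n + 1)) {Y : Type*} [Group Y]
    (π : Y →* P2) (hπ : Function.Surjective π) (hker : π.ker ≤ center Y) {x x' : Y}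
    (hx : π x ∈ cen (stdUni : P2)) (hx' : π x' ∈ cen (stdUni : P2)) : x * x' = x' * x := by
  classical
  haveI := charP_three hK
  choose y hy using fun a : K => hπ (uP a)
  have hc : ∀ {z : Y}, π z = 1 → ∀ w : Y, z * w = w * z := fun {z} hz w =>
    (mem_center_iff.mp (hker hz) w).symm
  have hcomm1 : ∀ a b : K, π ⁅y a, y b⁆ = 1 := fun a b => by
    rw [map_commutatorElement, hy, hy, commutatorElement_eq_one_iff_mul_comm, uP_mul, uP_mul, add_comm]
  have hwd : ∀ {s t : Y} {a b : K}, π s = uP a → π t = uP b → ⁅s, t⁆ = ⁅y a, y b⁆ := by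
    intro s t a b hs ht
    have h1 : π (s * (y a)⁻¹) = 1 := by rw [map_mul, map_inv, hs, hy, mul_inv_cancel]
    have h2 : π (t * (y b)⁻¹) = 1 := by rw [map_mul, map_inv, ht, hy, mul_inv_cancel]
    set c := s * (y a)⁻¹ with hc1
    set d := t * (y b)⁻¹ with hd1
    rw [show s = c * y a by rw [hc1, inv_mul_cancel_right], show t = d * y b by rw [hd1, inv_mul_cancel_right]]
    have hca : ∀ w, c * w = w * c := hc h1
    have hda : ∀ w, d * w = w * d := hc h2
    calc ⁅c * y a, d * y b⁆ = c * (y a * d) * y b * (y a)⁻¹ * (c⁻¹ * (y b)⁻¹) * d⁻¹ := by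
          rw [commutatorElement_def]; group
      _ = c * (d * y a) * y b * (y a)⁻¹ * ((y b)⁻¹ * c⁻¹) * d⁻¹ := by
          rw [hda (y a), (show Commute c (y b)⁻¹ from hca _).inv_left.eq]
      _ = c * d * ⁅y a, y b⁆ * c⁻¹ * d⁻¹ := by rw [commutatorElement_def]; group
      _ = ⁅y a, y b⁆ := by
          rw [hca d, mul_assoc d c, hca ⁅y a, y b⁆, ← mul_assoc, mul_inv_cancel_right, hda, mul_inv_cancel_right]
  -- the commutator pairing
  set f := fun a b : K => ⁅y a, y b⁆ with hf
  have hfc : ∀ a b (w : Y), f a b * w = w * f a b := fun a b => hc (hcomm1 a b)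
  have hinv : ∀ a b, (f a b)⁻¹ = f b a := fun a b => by rw [hf]; exact commutatorElement_inv _ _
  have hadd : ∀ a a' b, f (a + a') b = f a b * f a' b := by
    intro a a' b
    show ⁅y (a + a'), y b⁆ = _
    rw [← hwd (s := y a * y a') (t := y b) (by rw [map_mul, hy, hy, uP_mul]) (hy b)]
    calc ⁅y a * y a', y b⁆ = y a * ⁅y a', y b⁆ * (y a)⁻¹ * ⁅y a, y b⁆ := by
          rw [commutatorElement_def, commutatorElement_def, commutatorElement_def]; group
      _ = f a' b * f a b := by
          rw [show y a * ⁅y a', y b⁆ = ⁅y a', y b⁆ * y a from (hfc a' b (y a)).symm, mul_inv_cancel_right]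
      _ = f a b * f a' b := hfc a' b _
  have hadd' : ∀ a b b', f a (b + b') = f a b * f a b' := fun a b b' => by
    rw [← hinv (b + b') a, hadd, mul_inv_rev, hinv, hinv]
    exact hfc a b' _
  have hzero : ∀ b, f 0 b = 1 := fun b => by
    have := hadd 0 0 b
    rw [add_zero] at this
    exact left_eq_mul.mp this
  have hzero' : ∀ a, f a 0 = 1 := fun a => by rw [← hinv, hzero, inv_one]
  have hnegl : ∀ a b, f (-a) b = (f a b)⁻¹ := fun a b =>
    eq_inv_of_mul_eq_one_left (by rw [← hadd, neg_add_cancel, hzero])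
  have hnegr : ∀ a b, f a (-b) = (f a b)⁻¹ := fun a b =>
    eq_inv_of_mul_eq_one_left (by rw [← hadd', neg_add_cancel, hzero'])
  have hsq : ∀ (r : K) (a b : K), r ≠ 0 → f (r * r * a) (r * r * b) = f a b := by
    intro r a b hr
    obtain ⟨D, hD⟩ := hπ (proj (dSL (Units.mk0 r hr)))
    show ⁅y _, y _⁆ = ⁅y a, y b⁆
    rw [← hwd (s := D * y a * D⁻¹) (t := D * y b * D⁻¹)
      (by rw [map_mul, map_mul, map_inv, hD, hy, uP_conj]; rfl)
      (by rw [map_mul, map_mul, map_inv, hD, hy, uP_conj]; rfl)]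
    calc ⁅D * y a * D⁻¹, D * y b * D⁻¹⁆ = D * ⁅y a, y b⁆ * D⁻¹ := (conjugate_commutatorElement _ _ _).symm
      _ = ⁅y a, y b⁆ := by rw [← hfc a b D, mul_inv_cancel_right]
  have hq : Fintype.card K % 4 = 3 := by
    rw [hK, pow_succ, pow_mul, Nat.mul_mod, Nat.pow_mod]
    norm_num
  have hgen : ∀ a b : K, a ≠ 0 → f a b = f 1 (b / a) := by
    intro a b ha
    rcases em (IsSquare a) with ⟨r, rfl⟩ | hns
    · have hr : r ≠ 0 := fun e => ha (by rw [e, mul_zero])
      conv_lhs => rw [show b = r * r * (b / (r * r)) by field_simp, show r * r = r * r * 1 by rw [mul_one]]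
      rw [mul_one, show f (r * r) (r * r * (b / (r * r))) = f (r * r * 1) (r * r * (b / (r * r))) by rw [mul_one],
        hsq r 1 _ hr]
    · have h2 : ringChar K ≠ 2 := by rw [ringChar.eq K 3]; norm_num
      obtain ⟨r, hr'⟩ : IsSquare (-a) := by
        rw [← quadraticChar_one_iff_isSquare (neg_ne_zero.mpr ha), ← neg_one_mul a, map_mul,
          quadraticChar_neg_one_iff_not_isSquare.mpr hns, quadraticChar_neg_one_iff_not_isSquare.mpr
            (by rw [FiniteField.isSquare_neg_one_iff]; omega)]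
        norm_num
      have hr : r ≠ 0 := fun e => neg_ne_zero.mpr ha (by rw [hr', e, mul_zero])
      have h := hsq r 1 (b / (r * r)) hr
      rw [mul_one, show r * r * (b / (r * r)) = b by field_simp, ← hr', hnegl] at h
      rw [← inv_inv (f a b), h, ← hnegr]
      congr 1
      rw [div_neg, neg_neg]
  obtain ⟨t, ht0, ht1, htn⟩ : ∃ t : K, t ≠ 0 ∧ t ≠ 1 ∧ t ≠ -1 := by
    by_contra hall
    push Not at hall
    have hsub : (Finset.univ : Finset K) ⊆ {0, 1, -1} := fun t _ => by
      simp only [Finset.mem_insert, Finset.mem_singleton]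
      by_cases h0 : t = 0
      · exact Or.inl h0
      · by_cases h1 : t = 1
        · exact Or.inr (Or.inl h1)
        · exact Or.inr (Or.inr (hall t h0 h1))
    have := (Finset.card_le_card hsub).trans Finset.card_le_three
    rw [Finset.card_univ, hK] at this
    have := Nat.pow_le_pow_right (show 1 ≤ 3 by norm_num) (show 3 ≤ 2 * n + 1 by omega)
    omega
  have hB : ∀ c : K, f 1 c = 1 := by
    intro c'
    set c := c' / ((t - 1) * (t - 1)) with hc'
    have ht1' : t - 1 ≠ 0 := sub_ne_zero.mpr ht1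
    have ht' : 1 + t ≠ 0 := fun e => htn (eq_neg_of_add_eq_zero_right e)
    have h := hadd 1 t (t * (1 + t) * c)
    rw [hgen _ _ ht', hgen t _ ht0, show t * (1 + t) * c / (1 + t) = t * c by field_simp,
      show t * (1 + t) * c / t = c + t * c by field_simp, ← hadd'] at h
    have e : t * (1 + t) * c + (c + t * c) = t * c + c' := by
      rw [show c' = (t - 1) * (t - 1) * c by rw [hc']; field_simp]
      have h3 : (3 : K) = 0 := CharP.cast_eq_zero K 3
      linear_combination (t * c) * h3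
    rw [e, hadd'] at h
    exact left_eq_mul.mp h
  obtain ⟨a, ha⟩ := exists_uP hx
  obtain ⟨b, hb⟩ := exists_uP hx'
  refine commutatorElement_eq_one_iff_mul_comm.mp ((hwd ha.symm hb.symm).trans ?_)
  show f a b = 1
  rcases eq_or_ne a 0 with rfl | ha0
  · exact hzero b
  · rw [hgen a b ha0, hB]

end Cfsg.Agent.H91.FourFree
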