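import Cfsg.Agent.H91.FourFree.ThreeClean
import Cfsg.Agent.H91.FourFree.Suzuki
import Cfsg.Agent.H91.FourFree.PSLThree
import Cfsg.Agent.H86.PSLSizes.Radical
import Cfsg.Agent.Components.Layer
import Cfsg.Agent.Suzuki.Torus
import Cfsg.Agent.Cores.PCore
import Cfsg.Agent.S0493
import Mathlib.GroupTheory.Transfer
import Mathlib.GroupTheory.NoncommPiCoprod

/-!
# Groups generated by 2-elements without inverted elements of order three

Modulo the largest normal subgroup of order prime to three they are products of groups `PSL₂(3^odd)`.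
-/

set_option autoImplicit false
set_option linter.style.haveILetI false
set_option linter.unusedSectionVars false

namespace Cfsg.Agent.H91.FourFree

open Subgroup Cfsg.Agent
open Cfsg.Agent.H10.Walter (WalterHyp)
open Cfsg.Agent.H28.WardCons (TypeRCentralizer)
open Cfsg.Agent.H36.TwoIrrational (StronglyClosedAbelianHyp)
open Cfsg.Agent.Thompson.Par (Inv3)
open Cfsg.Agent.Linear.Dickson (cen stdUni)
open scoped Pointwise commutatorElement

universe u

local instance fact_three_product : Fact (Nat.Prime 3) := ⟨Nat.prime_three⟩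

/-- In a perfect group a central element of an abelian Sylow subgroup is trivial. -/
theorem eq_one_of_central_of_comm {p : ℕ} [Fact p.Prime] {X : Type*} [Group X] [Finite X] (hX : Group.IsPerfect X)
    (P : Sylow p X) (hP : ∀ a ∈ (P : Subgroup X), ∀ b ∈ (P : Subgroup X), a * b = b * a) {z : X}
    (hz : z ∈ center X) (hzP : z ∈ (P : Subgroup X)) : z = 1 := by
  haveI : IsMulCommutative ↥(P : Subgroup X) := ⟨⟨fun a b => Subtype.ext (hP a a.2 b b.2)⟩⟩
  haveI := hX
  letI : CommGroup ↥(P : Subgroup X) := { (inferInstance : Group ↥(P : Subgroup X)) with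
    mul_comm := fun a b => Subtype.ext (hP a a.2 b b.2) }
  set τ : X →* ↥(P : Subgroup X) := MonoidHom.transfer (MonoidHom.id ↥(P : Subgroup X)) with hτ
  have key : ∀ (k : ℕ) (g : X), g⁻¹ * z ^ k * g ∈ (P : Subgroup X) → g⁻¹ * z ^ k * g = z ^ k := fun k g _ => by
    rw [mul_assoc, ← mem_center_iff.mp (pow_mem hz k) g, inv_mul_cancel_left]
  have h1 : τ z = ⟨z ^ (P : Subgroup X).index, MonoidHom.transfer_eq_pow_aux z key⟩ :=
    MonoidHom.transfer_eq_pow (MonoidHom.id ↥(P : Subgroup X)) z key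
  have h2 : τ z = 1 := MonoidHom.mem_ker.mp
    (Abelianization.commutator_subset_ker τ ((Group.IsPerfect.commutator_eq_top (G := X)).symm ▸ mem_top z))
  rw [h1] at h2
  have h3 : z ^ (P : Subgroup X).index = 1 := congrArg Subtype.val h2
  obtain ⟨k, hk⟩ := P.isPGroup' ⟨z, hzP⟩
  exact orderOf_eq_one_iff.mp (Nat.eq_one_of_dvd_coprimes
    (((Fact.out : p.Prime).coprime_iff_not_dvd.mpr P.not_dvd_index).pow_left k)
    (orderOf_dvd_of_pow_eq_one (congrArg Subtype.val hk)) (orderOf_dvd_of_pow_eq_one h3))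

/-- A group generated by 2-elements lies in any subgroup containing them. -/
theorem eq_top_of_two_elements {Q : Type*} [Group Q] (hgen : closure {g : Q | ∃ k : ℕ, orderOf g = 2 ^ k} = ⊤)
    {H : Subgroup Q} (h : ∀ (g : Q) (k : ℕ), orderOf g = 2 ^ k → g ∈ H) : H = ⊤ :=
  eq_top_iff.mpr (hgen ▸ (closure_le H).mpr fun g ⟨k, hk⟩ => h g k hk)

/-- An inverted element of a 3-subgroup gives one of order three. -/
theorem cleanOn_of_not_inv3 {Q : Type u} [Group Q] [Finite Q] (h3 : ¬ Inv3 Q) :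
    H61.CleanOn 3 (⊤ : Subgroup Q) := by
  obtain ⟨T⟩ : Nonempty (Sylow 3 Q) := inferInstance
  refine H61.cleanOn_of_no_inversion (by norm_num) T le_top fun x hx hx1 g _ hg => h3 ?_
  obtain ⟨k, hk⟩ := T.isPGroup' ⟨x, hx⟩
  obtain ⟨j, hj, e⟩ := (Nat.dvd_prime_pow Nat.prime_three).mp (orderOf_dvd_of_pow_eq_one (congrArg Subtype.val hk))
  obtain _ | j := j
  · exact absurd (orderOf_eq_one_iff.mp (by rw [e, pow_zero])) hx1
  refine ⟨x ^ 3 ^ j, g, ?_, by rw [← conj_pow, hg, inv_pow]⟩
  change orderOf x = 3 ^ (j + 1) at e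
  rw [orderOf_pow_of_dvd (by positivity) (e ▸ pow_dvd_pow 3 (Nat.le_succ j)), e,
    Nat.pow_div (Nat.le_succ j) (by norm_num), show j + 1 - j = 1 by omega, pow_one]

variable {Q : Type u} [Group Q] [Finite Q]

/-- The components are simple groups `PSL₂(3^odd)`. -/
theorem component_psl (hWA : StronglyClosedAbelianHyp.{u}) (hWal : WalterHyp.{u}) (hR : TypeRCentralizer.{u})
    (hWard : H88.Gold.WardHyp.{u}) (h3 : ¬ Inv3 Q) (hO : Cfsg.pPrimeCore 3 Q = ⊥)
    (hF : IsPGroup 3 (Cfsg.fittingSubgroup Q)) {K : Subgroup Q} (hK : Cfsg.IsComponent K) :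
    center ↥K = ⊥ ∧ ∃ (F : Type) (_ : Field F) (_ : Fintype F) (n : ℕ), 1 ≤ n ∧
      Fintype.card F = 3 ^ (2 * n + 1) ∧ Nonempty (↥K ≃* Matrix.ProjectiveSpecialLinearGroup (Fin 2) F) := by
  classical
  haveI := hK.2.2
  have hZ3 : IsPGroup 3 (center ↥K) := by
    have hsn : ((center ↥K).map K.subtype).IsSubnormal :=
      Components.isSubnormal_map_subtype (Subgroup.Normal.isSubnormal inferInstance) hK.1
    have hnil : Group.IsNilpotent ↥((center ↥K).map K.subtype) := by
      letI : CommGroup ↥(center ↥K) := { (inferInstance : Group ↥(center ↥K)) with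
        mul_comm := fun a b => Subtype.ext (mem_center_iff.mp b.2 a) }
      exact Components.isNilpotent_map _ _ (CommGroup.isNilpotent (G := ↥(center ↥K)))
    exact (hF.to_le (Components.subnormal_nilpotent_le_fitting hsn hnil)).of_equiv
      (equivMapOfInjective _ K.subtype (subtype_injective K)).symm
  have hna := Components.qs_quotient_not_comm hK.2
  have h3K : ¬ Inv3 (↥K ⧸ center ↥K) := fun h =>
    h3 (Thompson.Par.Inv3.of_subgroup (Thompson.Par.Inv3.of_quotient _ h))
  rcases isSuzukiOrPSL_of_not_inv3 hWA hWal hR hWard hna h3K with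
    ⟨F, _, _, m, hm, hF', ⟨e⟩⟩ | ⟨F, _, _, n, hF', ⟨e⟩⟩
  · exfalso
    haveI : Suzuki.SzField F m := ⟨hF', hm⟩
    have hidx : ¬ 3 ∣ (center ↥K).index := by
      rw [Subgroup.index_eq_card, Nat.card_congr e.toEquiv, ← Nat.card_congr (Suzuki.lieEquiv m).toEquiv]
      exact Suzuki.three_not_dvd_card m
    have hbot : center ↥K = ⊥ := le_bot_iff.mp fun z hz => mem_bot.mpr
      (eq_one_of_central_of_comm hK.2.1 (hZ3.toSylow hidx)
        (fun a ha b _ => (mem_center_iff.mp (show a ∈ center ↥K from ha) b).symm) hz hz)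
    have hcard : ¬ 3 ∣ Nat.card ↥K := by rwa [hbot, Subgroup.index_bot] at hidx
    have hle : K ≤ Cfsg.pPrimeCore 3 Q := by
      rw [Cores.pPrimeCore_eq_piCore]
      exact Cores.le_piCore_of_isSubnormal hK.1 ((Cores.coprime_iff_isPiNumber 3 _).mp
        (Nat.prime_three.coprime_iff_not_dvd.mpr hcard).symm)
    rw [hO] at hle
    exact Components.qsSub_ne_bot hK.2 (le_bot_iff.mp hle)
  · have hn : 1 ≤ n := by
      by_contra h0
      obtain rfl : n = 0 := by omega
      have hlt : Nat.card (↥K ⧸ center ↥K) = 12 := by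
        rw [Nat.card_congr e.toEquiv]
        have h := Linear.card_PSL_two_mul (F := F)
        rw [hF', show Nat.gcd 2 (3 ^ (2 * 0 + 1) - 1) = 2 from by decide] at h
        norm_num at h
        rw [Nat.card_eq_fintype_card]
        omega
      have := S0493.result (G := ↥K ⧸ center ↥K)
        (fun hc => hna (haveI := hc; ⟨⟨fun a b => IsCyclic.commGroup.mul_comm a b⟩⟩)) (by omega)
      omega
    set π : ↥K →* Matrix.ProjectiveSpecialLinearGroup (Fin 2) F :=
      e.toMonoidHom.comp (QuotientGroup.mk' (center ↥K)) with hπdef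
    have hπ : Function.Surjective π := e.surjective.comp (QuotientGroup.mk'_surjective _)
    have hker : π.ker ≤ center ↥K := fun x hx =>
      (QuotientGroup.eq_one_iff x).mp (e.injective ((show e (QuotientGroup.mk' _ x) = 1 from hx).trans (map_one e).symm))
    obtain ⟨U, hU⟩ := exists_stdSylow (K := F) hF'
    obtain ⟨P, hP⟩ := Sylow.mapSurjective_surjective hπ 3 U
    have hPU : ∀ a ∈ (P : Subgroup ↥K), π a ∈ cen (stdUni : Matrix.ProjectiveSpecialLinearGroup (Fin 2) F) :=
      fun a ha => by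
        rw [← hU, ← hP, Sylow.coe_mapSurjective]
        exact mem_map_of_mem π ha
    have hbot : center ↥K = ⊥ := le_bot_iff.mp fun z hz => mem_bot.mpr <| by
      obtain ⟨R, hR⟩ := hZ3.exists_le_sylow
      obtain ⟨g, hg⟩ := MulAction.exists_smul_eq ↥K P R
      refine eq_one_of_central_of_comm hK.2.1 P
        (fun a ha b hb => comm_preimage hn hF' π hπ hker (hPU a ha) (hPU b hb)) hz ?_
      have hzR := hR hz
      rw [← hg] at hzR
      obtain ⟨y, hy, ey⟩ := hzR
      have : y = z := by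
        have h' : g * y * g⁻¹ = z := ey
        calc y = g⁻¹ * z * g := by rw [← h']; group
          _ = z := by rw [mul_assoc, ← mem_center_iff.mp hz g, inv_mul_cancel_left]
      rwa [this] at hy
    exact ⟨hbot, F, inferInstance, inferInstance, n, hn, hF',
      ⟨((QuotientGroup.quotientMulEquivOfEq hbot).trans QuotientGroup.quotientBot).symm.trans e⟩⟩

/-- The structure of a group generated by 2-elements with no inverted element of order three and no
non-trivial normal subgroup of order prime to three. -/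
theorem layer_eq_top (hWA : StronglyClosedAbelianHyp.{u}) (hWal : WalterHyp.{u}) (hR : TypeRCentralizer.{u})
    (hWard : H88.Gold.WardHyp.{u}) (hgen : closure {g : Q | ∃ k : ℕ, orderOf g = 2 ^ k} = ⊤)
    (h3 : ¬ Inv3 Q) (hO : Cfsg.pPrimeCore 3 Q = ⊥) :
    Cfsg.layer Q = ⊤ ∧ ∀ K : Subgroup Q, Cfsg.IsComponent K →
      center ↥K = ⊥ ∧ ∃ (F : Type) (_ : Field F) (_ : Fintype F) (n : ℕ), 1 ≤ n ∧
        Fintype.card F = 3 ^ (2 * n + 1) ∧ Nonempty (↥K ≃* Matrix.ProjectiveSpecialLinearGroup (Fin 2) F) := by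
  classical
  have hclean := cleanOn_of_not_inv3 h3
  set Z := Cfsg.pCore 3 Q with hZdef
  have hZp : IsPGroup 3 Z := Components.isPGroup_pCore 3
  have hZc : ∀ g : Q, g ∈ centralizer (Z : Set Q) := fun g => by
    rw [eq_top_of_two_elements hgen (H := centralizer (Z : Set Q)) fun t k ht =>
      hclean Z le_top hZp t (mem_top t) ⟨k, by rw [← ht, pow_orderOf_eq_one]⟩
        (by rw [normalizer_eq_top Z]; exact mem_top t)]
    exact mem_top g
  have hFZ : Cfsg.fittingSubgroup Q ≤ Z := by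
    rw [Components.fitting_eq_iSup_pCore]
    refine iSup_le fun p => ?_
    have hp := Nat.prime_of_mem_primeFactors p.2
    haveI := Fact.mk hp
    by_cases h : (p : ℕ) = 3
    · rw [h]
    · obtain ⟨k, hk⟩ := (Components.isPGroup_pCore (G := Q) (p : ℕ)).exists_card_eq
      have := Cores.le_pPrimeCore (p := 3) (N := Cfsg.pCore (p : ℕ) Q) (by
        rw [hk]
        exact ((Nat.coprime_primes hp Nat.prime_three).mpr h).pow_left k)
      rw [hO] at this
      exact this.trans bot_le
  have hcomp : ∀ K : Subgroup Q, Cfsg.IsComponent K → center ↥K = ⊥ ∧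
      ∃ (F : Type) (_ : Field F) (_ : Fintype F) (n : ℕ), 1 ≤ n ∧
        Fintype.card F = 3 ^ (2 * n + 1) ∧ Nonempty (↥K ≃* Matrix.ProjectiveSpecialLinearGroup (Fin 2) F) :=
    fun K hK => component_psl hWA hWal hR hWard h3 hO (hZp.to_le hFZ) hK
  refine ⟨?_, hcomp⟩
  set E := Cfsg.layer Q with hE
  haveI hEn : E.Normal := inferInstance
  obtain ⟨RE⟩ : Nonempty (Sylow 3 ↥E) := inferInstance
  set R : Subgroup Q := (RE : Subgroup ↥E).map E.subtype with hR'
  -- Frattini: everything is `E` times the centraliser of `R`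
  have hQ : E ⊔ centralizer (R : Set Q) = ⊤ := by
    refine eq_top_of_two_elements hgen fun t k ht => ?_
    have hfr : normalizer (R : Set Q) ⊔ E = ⊤ := Sylow.normalizer_sup_eq_top RE
    have ht' : t ∈ ((E ⊔ normalizer (R : Set Q) : Subgroup Q) : Set Q) := by
      rw [sup_comm, hfr]; exact mem_top t
    rw [Subgroup.normal_mul] at ht'
    obtain ⟨e, he, x, hx, rfl⟩ := Set.mem_mul.mp ht'
    set H := E ⊔ centralizer (R : Set Q)
    refine mul_mem (mem_sup_left he) ?_
    obtain ⟨a, m, hm, hox⟩ := Nat.exists_eq_pow_mul_and_not_dvd (orderOf_pos x).ne' 2 (by norm_num)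
    have hxm : x ^ m ∈ H := mem_sup_right (hclean R le_top (RE.isPGroup'.map _) (x ^ m) (mem_top _)
      ⟨a, by rw [← pow_mul, mul_comm, ← hox, pow_orderOf_eq_one]⟩ (pow_mem hx m))
    have hxk : x ^ 2 ^ k ∈ E := by
      rw [← QuotientGroup.eq_one_iff, QuotientGroup.mk_pow,
        show ((x : Q) : Q ⧸ E) = ((e * x : Q) : Q ⧸ E) from by
          rw [QuotientGroup.mk_mul, (QuotientGroup.eq_one_iff e).mpr he, one_mul],
        ← QuotientGroup.mk_pow, ← ht, pow_orderOf_eq_one, QuotientGroup.mk_one]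
    have hcop : Nat.Coprime m (2 ^ k) :=
      ((Nat.prime_two.coprime_iff_not_dvd.mpr hm).symm).pow_right k
    have h1 := Nat.gcd_eq_gcd_ab m (2 ^ k)
    rw [show Nat.gcd m (2 ^ k) = 1 from hcop] at h1
    rw [← zpow_one x, show (1 : ℤ) = (1 : ℕ) from rfl, h1, zpow_add, zpow_mul, zpow_mul, zpow_natCast, zpow_natCast]
    exact mul_mem (zpow_mem hxm _) (zpow_mem (mem_sup_left hxk) _)
  -- the centraliser of `R` induces inner automorphisms
  have hKE : ∀ K : Subgroup Q, Cfsg.IsComponent K → K ≤ E := fun K hK => Components.component_le_layer hK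
  have hRK : ∀ K : Subgroup Q, Cfsg.IsComponent K → ∃ S : Sylow 3 ↥K, (S : Subgroup ↥K) = R.subgroupOf K := by
    intro K hK
    obtain ⟨S₀⟩ : Nonempty (Sylow 3 ↥K) := inferInstance
    obtain ⟨R₀, hR₀⟩ := ((S₀.isPGroup'.map K.subtype).comap_of_injective E.subtype E.subtype_injective).exists_le_sylow
    obtain ⟨h, hh⟩ := MulAction.exists_smul_eq ↥E R₀ RE
    have hp : IsPGroup 3 (R.subgroupOf K) := (RE.isPGroup'.map E.subtype).comap_subtype
    obtain ⟨S, hS⟩ := hp.exists_le_sylow
    refine ⟨S, le_antisymm ?_ hS⟩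
    have hKn : ∀ s ∈ (S₀ : Subgroup ↥K), (h : Q) * (s : Q) * (h : Q)⁻¹ ∈ K := fun s _ =>
      (mem_normalizer_iff.mp (Components.layer_le_normalizer_component hK h.2) _).mp s.2
    have hmem : ∀ s ∈ (S₀ : Subgroup ↥K), (h : Q) * (s : Q) * (h : Q)⁻¹ ∈ R := fun s hs => by
      rw [hR', ← hh]
      refine ⟨h * ⟨(s : Q), hKE K hK s.2⟩ * h⁻¹, ⟨_, hR₀ ?_, rfl⟩, rfl⟩
      exact ⟨s, hs, rfl⟩
    let f : ↥(S₀ : Subgroup ↥K) → ↥(R.subgroupOf K) := fun s =>
      ⟨⟨(h : Q) * ((s : ↥K) : Q) * (h : Q)⁻¹, hKn s s.2⟩, hmem s s.2⟩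
    have hf : Function.Injective f := fun a b e => Subtype.ext (Subtype.ext (mul_left_cancel (mul_right_cancel
      (congrArg (fun z : ↥(R.subgroupOf K) => ((z : ↥K) : Q)) e))))
    have hle : Nat.card ↥(S : Subgroup ↥K) ≤ Nat.card ↥(R.subgroupOf K) :=
      (Nat.card_congr (Sylow.equiv S S₀).toEquiv).le.trans (Nat.card_le_card_of_injective f hf)
    exact (eq_of_le_of_card_ge hS hle).ge
  have hne : ∀ K : Subgroup Q, Cfsg.IsComponent K → ∃ r ∈ R, r ∈ K ∧ r ≠ 1 := by
    intro K hK
    obtain ⟨-, F, _, _, n, hn, hF, ⟨e⟩⟩ := hcomp K hK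
    obtain ⟨S, hS⟩ := hRK K hK
    have hd : 3 ∣ Nat.card ↥K := by
      rw [Nat.card_congr e.toEquiv]
      exact three_dvd_psl F
    obtain ⟨r, hr⟩ := exists_prime_orderOf_dvd_card' 3 (S.dvd_card_of_dvd_card hd)
    refine ⟨((r : ↥K) : Q), ?_, (r : ↥K).2, fun h1 => ?_⟩
    · exact mem_subgroupOf.mp (hS ▸ r.2)
    · rw [show r = 1 from Subtype.ext (Subtype.ext h1), orderOf_one] at hr
      norm_num at hr
  have hnorm : ∀ x ∈ centralizer (R : Set Q), ∀ K : Subgroup Q, Cfsg.IsComponent K →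
      ∀ k ∈ K, x * k * x⁻¹ ∈ K := by
    intro x hx K hK k hk
    have hK' := Components.component_conj hK x
    obtain ⟨r, hrR, hrK, hr1⟩ := hne K hK
    by_contra hout
    have hne' : K ≠ K.map (MulAut.conj x).toMonoidHom := fun e => hout (by
      rw [e]; exact ⟨k, hk, rfl⟩)
    have hr' : r ∈ K.map (MulAut.conj x).toMonoidHom := ⟨r, hrK, by
      show x * r * x⁻¹ = r
      rw [← mem_centralizer_iff.mp hx r hrR, mul_inv_cancel_right]⟩
    have hcomm := Components.components_commute hK hK' hne'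
    have hc : (⟨r, hrK⟩ : ↥K) ∈ center ↥K := mem_center_iff.mpr fun y =>
      Subtype.ext (Components.commute_of_commutator_eq_bot hcomm y.2 hr')
    rw [(hcomp K hK).1, mem_bot] at hc
    exact hr1 (congrArg Subtype.val hc)
  have hcent : centralizer (R : Set Q) ≤ E ⊔ Z := by
    intro x hx
    suffices key : ∀ s : Finset (Subgroup Q), (∀ K ∈ s, Cfsg.IsComponent K) →
        ∃ w ∈ E, (∀ K : Subgroup Q, Cfsg.IsComponent K → ∀ r ∈ R ⊓ K, w * x * r * (w * x)⁻¹ = r) ∧
          (∀ K : Subgroup Q, Cfsg.IsComponent K → ∀ k ∈ K, w * x * k * (w * x)⁻¹ ∈ K) ∧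
          ∀ K ∈ s, ∀ k ∈ K, w * x * k * (w * x)⁻¹ = k by
      haveI : Fintype (Subgroup Q) := Fintype.ofFinite _
      obtain ⟨w, hw, -, -, hfix⟩ := key (Finset.univ.filter fun K => Cfsg.IsComponent K)
        fun K hK => (Finset.mem_filter.mp hK).2
      have hEc : E ≤ centralizer ({w * x} : Set Q) := Components.layer_le_iff.mpr fun K hK k hk =>
        mem_centralizer_singleton_iff.mpr
          (mul_inv_eq_iff_eq_mul.mp (hfix K (Finset.mem_filter.mpr ⟨Finset.mem_univ _, hK⟩) k hk)).symm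
      have hmem : w * x ∈ centralizer (Cfsg.generalizedFittingSubgroup Q : Set Q) := by
        have hle : Cfsg.generalizedFittingSubgroup Q ≤ centralizer ({w * x} : Set Q) :=
          sup_le hEc fun z hz => mem_centralizer_singleton_iff.mpr
            (mem_centralizer_iff.mp (hZc (w * x)) z (hFZ hz))
        exact mem_centralizer_iff.mpr fun y hy => mem_centralizer_singleton_iff.mp (hle hy)
      have h' : w * x ∈ E ⊔ Z := (sup_le_sup_left hFZ E) (Components.centralizer_genFitting_le hmem)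
      rw [show x = w⁻¹ * (w * x) by group]
      exact mul_mem (inv_mem (mem_sup_left hw)) h'
    intro s
    induction s using Finset.induction with
    | empty =>
      refine fun _ => ⟨1, one_mem _, fun K _ r hr => ?_, fun K hK k hk => ?_, by simp⟩
      · rw [one_mul, ← mem_centralizer_iff.mp hx r hr.1, mul_inv_cancel_right]
      · rw [one_mul]; exact hnorm x hx K hK k hk
    | insert K s _ ih =>
      intro hs
      obtain ⟨w, hw, hwR, hwN, hwF⟩ := ih fun L hL => hs L (Finset.mem_insert_of_mem hL)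
      have hK : Cfsg.IsComponent K := hs K (Finset.mem_insert_self K s)
      obtain ⟨-, F, _, _, n, hn, hF, ⟨e⟩⟩ := hcomp K hK
      obtain ⟨S, hS⟩ := hRK K hK
      have hyN : w * x ∈ normalizer (K : Set Q) := by
        rw [mem_normalizer_iff_map_conj_eq]
        refine eq_of_le_of_card_ge ?_ (card_map_of_injective (MulEquiv.injective _)).ge
        rintro _ ⟨k, hk, rfl⟩
        exact hwN K hK k hk
      set α : MulAut ↥K := (
        ⟨⟨fun k => ⟨w * x * k * (w * x)⁻¹, hwN K hK k k.2⟩,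
          fun k => ⟨(w * x)⁻¹ * k * (w * x), (mem_normalizer_iff''.mp hyN k).mp k.2⟩,
          fun k => Subtype.ext (by group), fun k => Subtype.ext (by group)⟩,
          fun a b => Subtype.ext (by simp only [Subgroup.coe_mul]; group)⟩ : ↥K ≃* ↥K) with hα
      haveI : IsSimpleGroup (Matrix.ProjectiveSpecialLinearGroup (Fin 2) F) :=
        Linear.isSimpleGroup_PSL_fin (n := 2) le_rfl fun _ => by
          rw [Nat.card_eq_fintype_card, hF]
          calc 4 ≤ 3 ^ 3 := by norm_num
            _ ≤ 3 ^ (2 * n + 1) := Nat.pow_le_pow_right (by norm_num) (by omega)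
      haveI : IsSimpleGroup ↥K := e.isSimpleGroup
      have htr : H76.PostBender.SylTrans 3 ↥K := (sylTrans_psl hF).of_surjective (π := e.symm.toMonoidHom) e.symm.surjective
      have hab : ∀ a ∈ (S : Subgroup ↥K), ∀ b ∈ (S : Subgroup ↥K), a * b = b * a := fun a ha b hb =>
        e.injective (by
          rw [map_mul, map_mul]
          exact sylow_comm hF (S.mapSurjective (f := e.toMonoidHom) e.surjective) ⟨a, ha, rfl⟩ ⟨b, hb, rfl⟩)
      obtain ⟨T, hT⟩ : ∃ T : Sylow 3 ↥K, T ≠ S := by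
        by_contra hall
        push Not at hall
        haveI : (S : Subgroup ↥K).Normal := normalizer_eq_top_iff.mp (eq_top_iff.mpr fun g _ =>
          Sylow.smul_eq_iff_mem_normalizer.mp (hall _))
        rcases (inferInstance : (S : Subgroup ↥K).Normal).eq_bot_or_eq_top with h0 | h0
        · have := S.dvd_card_of_dvd_card (show 3 ∣ Nat.card ↥K by
            rw [Nat.card_congr e.toEquiv]; exact three_dvd_psl F)
          rw [h0, Subgroup.card_bot] at this
          exact absurd (Nat.le_of_dvd one_pos this) (by norm_num)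
        · exact Components.qs_center_ne_top hK.2 (eq_top_iff.mpr fun a _ => mem_center_iff.mpr fun b =>
            hab b (h0 ▸ mem_top b) a (h0 ▸ mem_top a))
      obtain ⟨u, hu, hu'⟩ := aut_eq_conj_of_fix htr S T hT hab α fun r hr =>
        Subtype.ext (hwR K hK r ⟨mem_subgroupOf.mp (hS ▸ hr), r.2⟩)
      have huy : ∀ k : ↥K, w * x * k * (w * x)⁻¹ = (u : Q) * k * (u : Q)⁻¹ := fun k =>
        congrArg Subtype.val (hu' k)
      have hcom : ∀ L : Subgroup Q, Cfsg.IsComponent L → L ≠ K → ∀ y ∈ L,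
          (u : Q)⁻¹ * y = y * (u : Q)⁻¹ := fun L hL hLK y hy =>
        Components.commute_of_commutator_eq_bot (Components.components_commute hK hL hLK.symm) (K.inv_mem u.2) hy
      refine ⟨(u : Q)⁻¹ * w, mul_mem (inv_mem (hKE K hK u.2)) hw, fun L hL r hr => ?_, fun L hL k hk => ?_,
        fun L hL k hk => ?_⟩
      · rw [show (u : Q)⁻¹ * w * x * r * ((u : Q)⁻¹ * w * x)⁻¹ =
          (u : Q)⁻¹ * (w * x * r * (w * x)⁻¹) * u by group, hwR L hL r hr]
        by_cases hLK : L = K
        · subst hLK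
          have h := hab u⁻¹ (inv_mem hu) ⟨r, hr.2⟩ (hS ▸ mem_subgroupOf.mpr hr.1)
          have h' : (u : Q)⁻¹ * r = r * (u : Q)⁻¹ := congrArg Subtype.val h
          rw [h', inv_mul_cancel_right]
        · rw [hcom L hL hLK r hr.2, inv_mul_cancel_right]
      · rw [show (u : Q)⁻¹ * w * x * k * ((u : Q)⁻¹ * w * x)⁻¹ =
          (u : Q)⁻¹ * (w * x * k * (w * x)⁻¹) * u by group]
        by_cases hLK : L = K
        · subst hLK
          exact mul_mem (mul_mem (inv_mem u.2) (hwN L hL k hk)) u.2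
        · rw [hcom L hL hLK _ (hwN L hL k hk), inv_mul_cancel_right]
          exact hwN L hL k hk
      · rw [show (u : Q)⁻¹ * w * x * k * ((u : Q)⁻¹ * w * x)⁻¹ =
          (u : Q)⁻¹ * (w * x * k * (w * x)⁻¹) * u by group]
        by_cases hLK : L = K
        · subst hLK
          rw [huy ⟨k, hk⟩]
          group
        · rw [hwF L ((Finset.mem_insert.mp hL).resolve_left hLK) k hk,
            hcom L (hs L hL) hLK k hk, inv_mul_cancel_right]
  have htop : E ⊔ Z = ⊤ := top_le_iff.mp (hQ ▸ sup_le le_sup_left hcent)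
  refine eq_top_of_two_elements hgen fun t k ht => ?_
  have ht' : t ∈ ((E ⊔ Z : Subgroup Q) : Set Q) := by rw [htop]; exact mem_top t
  rw [Subgroup.normal_mul] at ht'
  obtain ⟨e, he, z, hz, rfl⟩ := Set.mem_mul.mp ht'
  obtain ⟨j, hj⟩ := hZp ⟨z, hz⟩
  rw [← QuotientGroup.eq_one_iff (N := E), ← orderOf_eq_one_iff]
  refine Nat.eq_one_of_dvd_coprimes (((Nat.coprime_primes Nat.prime_two Nat.prime_three).mpr (by norm_num)).pow k j)
    (ht ▸ orderOf_map_dvd (QuotientGroup.mk' E) (e * z)) ?_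
  rw [QuotientGroup.mk_mul, (QuotientGroup.eq_one_iff e).mpr he, one_mul]
  exact (orderOf_map_dvd (QuotientGroup.mk' E) z).trans
    (orderOf_dvd_of_pow_eq_one (congrArg Subtype.val hj))

/-- The structure as an isomorphism with a product. -/
theorem equiv_pi_psl (hWA : StronglyClosedAbelianHyp.{u}) (hWal : WalterHyp.{u}) (hR : TypeRCentralizer.{u})
    (hWard : H88.Gold.WardHyp.{u}) (hgen : closure {g : Q | ∃ k : ℕ, orderOf g = 2 ^ k} = ⊤)
    (h3 : ¬ Inv3 Q) (hO : Cfsg.pPrimeCore 3 Q = ⊥) :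
    ∃ (k : ℕ) (f : Fin k → ℕ), (∀ i, 1 ≤ f i) ∧ Nonempty (Q ≃* ((i : Fin k) →
      Matrix.ProjectiveSpecialLinearGroup (Fin 2) (GaloisField 3 (2 * f i + 1)))) := by
  classical
  obtain ⟨htop, hcomp⟩ := layer_eq_top hWA hWal hR hWard hgen h3 hO
  haveI : Fintype {K : Subgroup Q // Cfsg.IsComponent K} := Fintype.ofFinite _
  set ε := (Fintype.equivFin {K : Subgroup Q // Cfsg.IsComponent K}).symm
  set H : Fin (Fintype.card {K : Subgroup Q // Cfsg.IsComponent K}) → Subgroup Q := fun i => (ε i).1 with hH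
  have hcomm : Pairwise fun i j => ∀ x y : Q, x ∈ H i → y ∈ H j → Commute x y := fun i j hij x y hx hy =>
    Components.commute_of_commutator_eq_bot (Components.components_commute (ε i).2 (ε j).2
      fun h => hij (ε.injective (Subtype.ext h))) hx hy
  have hind : iSupIndep H := fun i => disjoint_iff_inf_le.mpr fun x hx => by
    have hle : (⨆ (j) (_ : j ≠ i), H j) ≤ centralizer (H i : Set Q) := iSup₂_le fun j hj y hy =>
      mem_centralizer_iff.mpr fun z hz => (hcomm hj y z hy hz).eq.symm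
    have hc : (⟨x, hx.1⟩ : ↥(H i)) ∈ center ↥(H i) :=
      mem_center_iff.mpr fun y => Subtype.ext (mem_centralizer_iff.mp (hle hx.2) y y.2)
    rw [(hcomp (H i) (ε i).2).1, mem_bot] at hc
    exact mem_bot.mpr (congrArg Subtype.val hc)
  have hinj := Subgroup.injective_noncommPiCoprod_of_iSupIndep (hcomm := hcomm) hind
  have hsurj : Function.Surjective (Subgroup.noncommPiCoprod hcomm) := by
    rw [← MonoidHom.range_eq_top, Subgroup.noncommPiCoprod_range, eq_top_iff, ← htop]
    exact Components.layer_le_iff.mpr fun K hK => le_trans (le_of_eq (by rw [hH]; simp))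
      (le_iSup H (ε.symm ⟨K, hK⟩))
  have key : ∀ i, ∃ n, 1 ≤ n ∧
      Nonempty (↥(H i) ≃* Matrix.ProjectiveSpecialLinearGroup (Fin 2) (GaloisField 3 (2 * n + 1))) := fun i => by
    obtain ⟨-, F, _, _, n, hn, hF, ⟨e⟩⟩ := hcomp (H i) (ε i).2
    letI : Fintype (GaloisField 3 (2 * n + 1)) := Fintype.ofFinite _
    obtain ⟨e'⟩ := H86.PSLSizes.nonempty_psl_congr (F := F) (K := GaloisField 3 (2 * n + 1))
      (by rw [hF, ← Nat.card_eq_fintype_card, GaloisField.card 3 (2 * n + 1) (by omega)])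
    exact ⟨n, hn, ⟨e.trans e'⟩⟩
  choose f hf he using key
  exact ⟨_, f, hf, ⟨(MulEquiv.ofBijective _ ⟨hinj, hsurj⟩).symm.trans
    (MulEquiv.piCongrRight fun i => (he i).some)⟩⟩

/-- No element of order three is conjugate to its inverse iff the quotient by the `3'`-core is such a product. -/
theorem real_three_iff (hWA : StronglyClosedAbelianHyp.{u}) (hWal : WalterHyp.{u}) (hR : TypeRCentralizer.{u})
    (hWard : H88.Gold.WardHyp.{u}) {G : Type u} [Group G] [Finite G]
    (hgen : closure {g : G | ∃ k : ℕ, orderOf g = 2 ^ k} = ⊤) :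
    (∀ x : G, orderOf x = 3 → ¬ IsConj x x⁻¹) ↔ ∃ (k : ℕ) (f : Fin k → ℕ), (∀ i, 1 ≤ f i) ∧
      Nonempty (G ⧸ Cfsg.pPrimeCore 3 G ≃* ((i : Fin k) →
        Matrix.ProjectiveSpecialLinearGroup (Fin 2) (GaloisField 3 (2 * f i + 1)))) := by
  constructor
  · intro h
    refine equiv_pi_psl hWA hWal hR hWard ?_ ?_ Cores.pPrimeCore_quotient_pPrimeCore
    · refine eq_top_iff.mpr ?_
      rw [← map_top_of_surjective (QuotientGroup.mk' (Cfsg.pPrimeCore 3 G)) (QuotientGroup.mk'_surjective _),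
        ← hgen, MonoidHom.map_closure, closure_le]
      rintro _ ⟨g, ⟨k, hk⟩, rfl⟩
      obtain ⟨j, -, hj⟩ := (Nat.dvd_prime_pow Nat.prime_two).mp
        (hk ▸ orderOf_map_dvd (QuotientGroup.mk' (Cfsg.pPrimeCore 3 G)) g)
      exact subset_closure ⟨j, hj⟩
    · intro hi
      obtain ⟨b, t, hb, ht⟩ := Thompson.Par.Inv3.of_quotient _ hi
      exact h b hb (isConj_iff.mpr ⟨t, ht⟩)
  · rintro ⟨k, f, hf, ⟨e⟩⟩ x hx hc
    obtain ⟨g, hg⟩ := isConj_iff.mp hc
    set π := QuotientGroup.mk' (Cfsg.pPrimeCore 3 G) with hπ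
    set a := e (π x)
    have hx3 : x ^ 3 = 1 := hx ▸ pow_orderOf_eq_one x
    by_cases ha : a = 1
    · have hmem : x ∈ Cfsg.pPrimeCore 3 G :=
        (QuotientGroup.eq_one_iff x).mp (e.injective (ha.trans (map_one e).symm))
      have := Subgroup.orderOf_dvd_natCard _ hmem
      rw [hx] at this
      exact Nat.prime_three.coprime_iff_not_dvd.mp Cores.coprime_card_pPrimeCore.symm this
    · obtain ⟨i, hi⟩ := Function.ne_iff.mp ha
      letI : Fintype (GaloisField 3 (2 * f i + 1)) := Fintype.ofFinite _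
      refine H88.Gold.not_inv3_member (G := Matrix.ProjectiveSpecialLinearGroup (Fin 2) (GaloisField 3 (2 * f i + 1)))
        (Or.inr ⟨GaloisField 3 (2 * f i + 1), inferInstance, inferInstance, f i,
          by rw [← Nat.card_eq_fintype_card, GaloisField.card 3 (2 * f i + 1) (by omega)], ⟨MulEquiv.refl _⟩⟩)
        ⟨a i, e (π g) i, orderOf_eq_prime ?_ hi, ?_⟩
      · rw [← Pi.pow_apply, ← map_pow, ← map_pow, hx3, map_one, map_one, Pi.one_apply]
      · rw [← Pi.inv_apply, ← Pi.mul_apply, ← Pi.mul_apply, ← map_inv, ← map_mul, ← map_mul, ← map_inv, ← map_mul,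
          ← map_mul, hg, map_inv, map_inv, Pi.inv_apply]

end Cfsg.Agent.H91.FourFree
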