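import Cfsg.Agent.H91.FourFree.Goldschmidt
import Cfsg.Agent.H61.TwoClosed

/-!
# No inversion in `N(ZJ(T))` for a Sylow 3-subgroup `T`

Then no element of order three is inverted, so there is no section `S₃`, and the simple sections are groups of
Goldschmidt without a section `S₃`.
-/

set_option autoImplicit false
set_option linter.style.haveILetI false

namespace Cfsg.Agent.H91.FourFree

open Subgroup Cfsg.Agent
open Cfsg.Agent.H10.Walter (WalterHyp)
open Cfsg.Agent.H28.WardCons (TypeRCentralizer)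
open Cfsg.Agent.H36.TwoIrrational (StronglyClosedAbelianHyp)
open Cfsg.Agent.Thompson.Par (Inv3)

universe u

/-- No inversion in `N(ZJ(T))` gives no inverted element of order three. -/
theorem not_inv3_of_clean {G : Type u} [Group G] [Finite G] (T : Sylow 3 G)
    (h : ∀ x ∈ (T : Subgroup G), x ≠ 1 → ∀ g ∈ normalizer (Cfsg.centerThompsonAOf (T : Subgroup G) : Set G),
      g * x * g⁻¹ ≠ x⁻¹) : ¬ Inv3 G := by
  haveI : Fact (Nat.Prime 3) := ⟨Nat.prime_three⟩
  rw [Thompson.centerThompsonAOf_eq] at h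
  have hN := H61.cleanOn_of_no_inversion (q := 3) (by norm_num) T
    (le_normalizer.trans ((Thompson.normalizer_le_normalizer_jay 0 (T : Subgroup G)).trans
      (Thompson.normalizer_jay_le_normalizer_zjay 0 (T : Subgroup G)))) h
  have hclean := H61.clean_of_zjay_normalizer (q := 3) (by norm_num) (Nat.card G) G le_rfl T hN
  intro h3
  obtain ⟨b, x, hb, ⟨k, hk⟩, hx⟩ := H88.Gold.Inv3.two_part h3
  have hp : IsPGroup 3 (zpowers b) := IsPGroup.of_card (n := 1) (by rw [Nat.card_zpowers, hb, pow_one])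
  have hn : x ∈ normalizer ((zpowers b : Subgroup G) : Set G) := by
    refine H48.mem_normalizer_of_cj_eq ?_
    rw [H48.cj, MonoidHom.map_zpowers]
    show zpowers (x * b * x⁻¹) = zpowers b
    rw [hx, zpowers_inv]
  have hc := hclean (zpowers b) le_top hp x (mem_top x) ⟨k, by rw [← hk, pow_orderOf_eq_one]⟩ hn
  rw [← mem_centralizer_iff.mp hc b (mem_zpowers b), mul_inv_cancel_right] at hx
  have h2 : b ^ 2 = 1 := by rw [pow_two]; exact mul_eq_one_iff_eq_inv.mpr hx
  have := orderOf_dvd_of_pow_eq_one h2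
  rw [hb] at this
  exact absurd (Nat.le_of_dvd two_pos this) (by norm_num)

/-- A simple section of a group without a section `S₃`. -/
theorem isSuzukiOrPSL_of_not_inv3 (hWA : StronglyClosedAbelianHyp.{u}) (hWal : WalterHyp.{u})
    (hR : TypeRCentralizer.{u}) (hWard : H88.Gold.WardHyp.{u}) {X : Type u} [Group X] [Finite X]
    [IsSimpleGroup X] (hna : ¬ IsMulCommutative X) (h3 : ¬ Inv3 X) :
    Cfsg.IsSuzukiOrPSL2OddPowerThree X := by
  have h4 : ¬ Cfsg.Involves (Equiv.Perm (Fin 4)) X := by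
    refine fun hi => h3 ?_
    obtain ⟨T, -, hT⟩ := H58.SFour.forward hi
    exact Thompson.Par.Inv3.of_subgroup (Thompson.Par.Inv3.of_quotient _ (H88.Gold.involves_three_iff.mp hT))
  exact ((H88.Gold.goldschmidt_of_ward hWard (isGoldschmidt_of_four_free hWA hWal hR hWard hna h4)).2).mp
    fun h => h3 (H88.Gold.involves_three_iff.mp h)

/-- No inversion in `N(ZJ(T))`: no section `S₃`, and the composition factors are Suzuki or `PSL₂(3^odd)`. -/
theorem three_clean_structure (hWA : StronglyClosedAbelianHyp.{u}) (hWal : WalterHyp.{u})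
    (hR : TypeRCentralizer.{u}) (hWard : H88.Gold.WardHyp.{u}) {G : Type u} [Group G] [Finite G] (T : Sylow 3 G)
    (h : ∀ x ∈ (T : Subgroup G), x ≠ 1 → ∀ g ∈ normalizer (Cfsg.centerThompsonAOf (T : Subgroup G) : Set G),
      g * x * g⁻¹ ≠ x⁻¹) :
    ¬ Cfsg.Involves (Equiv.Perm (Fin 3)) G ∧
      Cfsg.IsCompositionKGroupWith Cfsg.IsSuzukiOrPSL2OddPowerThree G := by
  have h3 := not_inv3_of_clean T h
  refine ⟨fun hi => h3 (H88.Gold.involves_three_iff.mp hi), fun H _ N _ hs hn => ?_⟩
  haveI := hs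
  exact isSuzukiOrPSL_of_not_inv3 hWA hWal hR hWard hn fun hi =>
    h3 (Thompson.Par.Inv3.of_subgroup (Thompson.Par.Inv3.of_quotient N hi))

end Cfsg.Agent.H91.FourFree
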